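import Groth.Prelude.Def_KRR
import Groth.Agent.CohqA.ClosedPush
import Groth.Agent.CohqA.AffPush
import Groth.Agent.PerfB.FlatPull

/-!
# Enough locally free modules on closed subschemes
-/

set_option autoImplicit false
universe u
open CategoryTheory CategoryTheory.Limits AlgebraicGeometry

namespace Groth.Agent.Krr.H466.ClosedLF

variable {X P : Scheme.{u}}

/-- The counit `i^* i_* F ⟶ F` is an isomorphism for a closed immersion. -/
theorem isIso_counit (i : X ⟶ P) [IsClosedImmersion i] :
    IsIso (Scheme.Modules.pullbackPushforwardAdjunction i).counit := by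
  have := CohqA.ClosedPush.full (i := i)
  have := CohqA.ClosedPush.faithful (i := i)
  infer_instance

/-- A closed subscheme of a scheme with enough locally free modules has enough locally free modules. -/
theorem hasEnoughLocFree_of_closed (i : X ⟶ P) [IsClosedImmersion i]
    (hP : KRR.HasEnoughLocFree P) : KRR.HasEnoughLocFree X := by
  intro F hF
  obtain ⟨E, p, hE, hp⟩ := hP ((Scheme.Modules.pushforward i).obj F)
    ⟨CohqA.AffPush.isQCoh_push i F hF.1, CohqA.AffPush.isFT_push i F hF.1 hF.2⟩
  have := isIso_counit i
  have h1 : IsIso ((Scheme.Modules.pullbackPushforwardAdjunction i).counit.app F) := inferInstance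
  have h2 : Epi ((Scheme.Modules.pullback i).map p) := inferInstance
  exact ⟨(Scheme.Modules.pullback i).obj E, (Scheme.Modules.pullback i).map p ≫
    (Scheme.Modules.pullbackPushforwardAdjunction i).counit.app F,
    PerfB.FlatPull.isFinLocFree_pullback i hE, epi_comp _ _⟩

end Groth.Agent.Krr.H466.ClosedLF
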